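import Cfsg.Agent.Lib.Helper4.TC.Fi22U62Glue
import Cfsg.Agent.Lib.Helper4.TC.Schur3

set_option autoImplicit false
set_option maxRecDepth 100000
set_option linter.unusedVariables false

/-! Schur multiplier of the Fischer group `Fi22`: the basic objects.  Generators: the nine
transpositions `a b c d e f g h i` of the presentation `Cfsg.Spor.Fi22` (codes `0 2 4 6 8 10 12 14 16`,
odd codes = inverses; helper4's coding `Fi22U62.dec`; a code word `[l₁, …, lₙ]` evaluates to
`gl lₙ * ⋯ * gl l₁`).  `PW` is the group in which the Coxeter relators hold and the three further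
relators are only central; `PW1` is its quotient in which the second of them holds as well. -/

namespace Cfsg.Agent.Lib.Helper6.Fi22M

open Cfsg Cfsg.Agent.Helper4.TC

abbrev Gen : Type := Cfsg.Spor.Fi22.Gen
abbrev dec : ℕ → Letter Gen := Fi22U62.dec
abbrev enc : Gen → ℕ := Fi22U62.enc
abbrev RP : Set (FreeGroup Gen) := Fi22U62.Rset
/-- the presented group; definitionally `Cfsg.Spor.Fi22` -/
abbrev P : Type := PresentedGroup RP

/-- the nine generators, as code words -/
def gensL : List (List ℕ) := [[0], [2], [4], [6], [8], [10], [12], [14], [16]]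

/-- the 81 Coxeter relators `(y x)^m`, as code words (the first 81 entries of helper4's `Fi22U62.bases`) -/
def coxL : List (List ℕ) := Fi22U62.bases.take 81

/-- `(d c b d e f d h i)^10` -/
def rho1 : List ℕ := [16, 14, 6, 10, 8, 6, 2, 4, 6, 16, 14, 6, 10, 8, 6, 2, 4, 6, 16, 14, 6, 10, 8, 6, 2, 4, 6, 16, 14, 6, 10, 8, 6, 2, 4, 6, 16, 14, 6, 10, 8, 6, 2, 4, 6, 16, 14, 6, 10, 8, 6, 2, 4, 6, 16, 14, 6, 10, 8, 6, 2, 4, 6, 16, 14, 6, 10, 8, 6, 2, 4, 6, 16, 14, 6, 10, 8, 6, 2, 4, 6, 16, 14, 6, 10, 8, 6, 2, 4, 6]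
/-- `(a b c d e f h)^9` -/
def rho2 : List ℕ := [14, 10, 8, 6, 4, 2, 0, 14, 10, 8, 6, 4, 2, 0, 14, 10, 8, 6, 4, 2, 0, 14, 10, 8, 6, 4, 2, 0, 14, 10, 8, 6, 4, 2, 0, 14, 10, 8, 6, 4, 2, 0, 14, 10, 8, 6, 4, 2, 0, 14, 10, 8, 6, 4, 2, 0, 14, 10, 8, 6, 4, 2, 0]
/-- `(b c d e f g h)^9` -/
def rho3 : List ℕ := [14, 12, 10, 8, 6, 4, 2, 14, 12, 10, 8, 6, 4, 2, 14, 12, 10, 8, 6, 4, 2, 14, 12, 10, 8, 6, 4, 2, 14, 12, 10, 8, 6, 4, 2, 14, 12, 10, 8, 6, 4, 2, 14, 12, 10, 8, 6, 4, 2, 14, 12, 10, 8, 6, 4, 2, 14, 12, 10, 8, 6, 4, 2]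

def centL : List (List ℕ) := [rho1, rho2, rho3]

theorem bases_eq : Fi22U62.bases = coxL ++ centL := by decide +kernel

/-- the relators of the weak group -/
def relW : List (List ℕ) := coxL ++ Schur.weakify0 gensL centL
abbrev RW : Set (FreeGroup Gen) := relSet dec relW
/-- the weak group: Coxeter relators exact, the three further relators central -/
abbrev PW : Type := PresentedGroup RW

def relW1 : List (List ℕ) := (coxL ++ [rho2]) ++ Schur.weakify0 gensL [rho1, rho3]
abbrev RW1 : Set (FreeGroup Gen) := relSet dec relW1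
/-- the quotient of the weak group in which `rho2` holds: the covering group -/
abbrev PW1 : Type := PresentedGroup RW1

theorem wordF_mem_RP (b : List ℕ) (hb : b ∈ coxL ++ centL) : wordF dec b ∈ RP := by
  rw [← bases_eq] at hb
  exact Fi22U62.hR2 b hb

/-- every relator word of `P` evaluates to one -/
theorem evc_of_eq_one (b : List ℕ) (hb : b ∈ coxL ++ centL) :
    evc (PresentedGroup.of (rels := RP)) dec b = 1 := by
  rw [evc_of]
  exact PresentedGroup.one_of_mem (wordF_mem_RP b hb)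

/-- the two central elements of the covering group -/
noncomputable def r1 : PW1 := evc (PresentedGroup.of (rels := RW1)) dec rho1
noncomputable def r3 : PW1 := evc (PresentedGroup.of (rels := RW1)) dec rho3

end Cfsg.Agent.Lib.Helper6.Fi22M
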