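import Cfsg.Agent.Lib.Helper6.Fi22M.Defs

set_option autoImplicit false

/-! Certificates for the canonical involution lifts in `Fi22` (found by a search in the permutation
representation on the 3510 transpositions; all identities hold in `Cfsg.Spor.Fi22`, checkable by
helper4's `Fi22U6.hone`).  Code words, helper4's convention (`[l₁, …, lₙ]` evaluates to
`gl lₙ * ⋯ * gl l₁`); base transposition `c = a`.  Same shape as helper7's `U62M.CertData`. -/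

namespace Cfsg.Agent.Lib.Helper6.Fi22M

/-- `x` and `y`: `x * y * x⁻¹ * y⁻¹ = a`, `x * x = 1`  (`x = c e h`) -/
def xW : List ℕ := [4, 8, 14]
def yW : List ℕ := [2, 0, 6, 4, 2, 8, 10, 14, 6, 4, 2, 8, 6, 14, 4, 6, 8, 10, 2, 4, 6, 8, 0, 2, 4, 6, 0, 2]
/-- `u` with `u ^ 9 = 1`, `(x * u⁻¹) ^ 5 = 1`, both commuting with `a` -/
def xuW : List ℕ := [10, 16, 8, 14, 4, 12, 6]
def xuOrd : ℕ × ℕ := (9, 5)
/-- `gw i * a * (gw i)⁻¹ = s i` -/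
def gwW : Gen → List ℕ
  | .a => []
  | .b => [2, 0]
  | .c => [2, 0, 4, 2]
  | .d => [2, 0, 4, 2, 6, 4]
  | .e => [2, 0, 4, 2, 6, 4, 8, 6]
  | .f => [2, 0, 4, 2, 6, 4, 8, 6, 10, 8]
  | .g => [2, 0, 4, 2, 6, 4, 8, 6, 10, 8, 12, 10]
  | .h => [2, 0, 4, 2, 6, 4, 14, 6]
  | .i => [2, 0, 4, 2, 6, 4, 14, 6, 16, 14]
/-- `(i, j, u, m₂, m₁)`: with `h = (gw j)⁻¹ * s i * gw j`: `u ^ m₂ = 1`, `(h * u⁻¹) ^ m₁ = 1`, `u` and `h` commute with `a` -/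
def commCert : List (Gen × Gen × List ℕ × ℕ × ℕ) := [
  (.a, .c, [14, 10, 16, 12, 6, 8], 7, 9),
  (.a, .d, [4, 12, 14, 8, 4, 16, 6, 10], 7, 9),
  (.a, .e, [8, 14, 12, 4, 16, 6, 4, 10], 7, 9),
  (.a, .f, [14, 10, 6, 16, 8, 14, 16, 12], 7, 9),
  (.a, .g, [4, 16, 10, 6, 14, 4, 8, 12], 7, 9),
  (.a, .h, [12, 10, 4, 6, 16, 8, 14], 9, 7),
  (.a, .i, [6, 8, 14, 12, 16, 10], 7, 9),
  (.b, .d, [10, 14, 4, 12, 6, 16, 8, 4], 7, 7),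
  (.b, .e, [14, 8, 10, 16, 6, 4, 12], 9, 7),
  (.b, .f, [8, 14, 10, 12, 6, 8, 16, 4], 15, 7),
  (.b, .g, [4, 6, 10, 14, 4, 16, 8, 12], 7, 9),
  (.b, .h, [4, 10, 8, 12, 14, 16, 6, 4], 7, 9),
  (.b, .i, [8, 12, 4, 6, 14, 10, 8, 16], 15, 7),
  (.c, .e, [14, 4, 6, 10, 12, 16, 8], 9, 15),
  (.c, .f, [14, 4, 12, 6, 14, 16, 14, 10], 15, 9),
  (.c, .g, [10, 12, 6, 4, 14, 16], 15, 9),
  (.c, .h, [10, 4, 6, 14, 6, 12, 8, 6, 16], 7, 7),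
  (.c, .i, [12, 4, 6, 8, 10, 14, 16, 6, 14], 7, 7),
  (.d, .f, [12, 4, 8, 6, 14, 10, 8, 16], 15, 9),
  (.d, .g, [8, 10, 4, 6, 8, 16, 12, 14], 15, 9),
  (.d, .i, [12, 8, 16, 14, 6, 16, 8, 14, 6, 10, 4], 7, 7),
  (.e, .g, [6, 14, 16, 8, 10, 6, 8, 4], 9, 7),
  (.e, .h, [4, 10, 16, 6, 8, 14, 12], 9, 15),
  (.e, .i, [12, 14, 16, 4, 10, 6, 8], 9, 15),
  (.f, .h, [8, 10, 12, 4, 16, 6, 8, 14], 15, 9),
  (.f, .i, [8, 6, 10, 4, 16, 12, 8, 14], 15, 9),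
  (.g, .h, [14, 8, 10, 16, 6, 8, 4, 6], 9, 7),
  (.g, .i, [16, 10, 4, 8, 6, 8, 14, 6], 9, 7)]
/-- `(i, j, u, m₂, m₁)`: with `h = (gw j)⁻¹ * s i * s j * gw i`: here always `h = 1` (`u = []`, `m₂ = m₁ = 1`) -/
def edgeCert : List (Gen × Gen × List ℕ × ℕ × ℕ) := [
  (.a, .b, [], 1, 1),
  (.b, .c, [], 1, 1),
  (.c, .d, [], 1, 1),
  (.d, .e, [], 1, 1),
  (.d, .h, [], 1, 1),
  (.e, .f, [], 1, 1),
  (.f, .g, [], 1, 1),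
  (.h, .i, [], 1, 1)]

end Cfsg.Agent.Lib.Helper6.Fi22M
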