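import Cfsg.Agent.Lib.Helper6.Fi22M.Defs
import Cfsg.Agent.Lib.Helper6.Fi22M.CertData
import Cfsg.Agent.Lib.Helper23.U62MCLA
import Cfsg.Agent.Lib.Helper4.TC.Fi22U6Main

set_option autoImplicit false
set_option maxRecDepth 100000
set_option linter.unusedVariables false

/-! S2053-[CL-B]: the certificates of `Fi22M.CertData` hold in `P = Cfsg.Spor.Fi22`.  Every identity is
a word identity, checked on the base points of helper4's 3510-point model (`Fi22U6.hone`). -/

namespace Cfsg.Agent.Lib.Helper6.Fi22M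

open Cfsg Cfsg.Agent.Helper4.TC
open Cfsg.Agent.Lib.Helper7.U62M (oddCent)

namespace CLB

/-- the element of `P` of a code word -/
noncomputable def pw (w : List ℕ) : P := evc (PresentedGroup.of (rels := RP)) dec w

theorem pw_nil : pw [] = 1 := rfl

theorem pw_append (u v : List ℕ) : pw (u ++ v) = pw v * pw u := evc_append _ _ u v

theorem pw_invW (w : List ℕ) : pw (invW w) = (pw w)⁻¹ := evc_invW _ Fi22U62.coding w

theorem pw_enc (i : Gen) : pw [enc i] = PresentedGroup.of i := by
  unfold pw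
  rw [evc_cons, evc_nil, one_mul]
  have h : dec (enc i) = (i, true) := Fi22U62.coding.dec_enc i
  rw [h]
  rfl

/-- the word check: the base points of the model are fixed -/
noncomputable def chk (w : List ℕ) : Bool := fixesB Fi22U62.mdata Fi22U6.pts w

theorem pw_eq_one (w : List ℕ) (h : chk w = true) : pw w = 1 := by
  unfold pw
  rw [evc_of]
  exact Fi22U6.hone w h

/-- repetition of a word -/
def rep : ℕ → List ℕ → List ℕ
  | 0, _ => []
  | n + 1, w => w ++ rep n w

theorem pw_rep (n : ℕ) (w : List ℕ) : pw (rep n w) = pw w ^ n := by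
  induction n with
  | zero => rw [pow_zero]; rfl
  | succ n ih => rw [rep, pw_append, ih, pow_succ]

/-- the letter `a` -/
def aW : List ℕ := [0]

theorem pw_aW : pw aW = PresentedGroup.of (rels := RP) Cfsg.Spor.Fi22.Gen.a := pw_enc .a

/-- the word of `w * a * w⁻¹ * a⁻¹` -/
def commA (w : List ℕ) : List ℕ := invW aW ++ invW w ++ aW ++ w

theorem pw_commA (w : List ℕ) :
    pw (commA w) = pw w * PresentedGroup.of .a * (pw w)⁻¹ * (PresentedGroup.of .a)⁻¹ := by
  unfold commA
  rw [pw_append, pw_append, pw_append, pw_invW, pw_invW, pw_aW]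
  group

theorem commute_of_commA (w : List ℕ) (h : chk (commA w) = true) :
    pw w * PresentedGroup.of (rels := RP) .a = PresentedGroup.of .a * pw w := by
  have h1 := pw_eq_one _ h
  rw [pw_commA] at h1
  calc pw w * PresentedGroup.of (rels := RP) .a
      = (pw w * PresentedGroup.of .a * (pw w)⁻¹ * (PresentedGroup.of .a)⁻¹) *
          (PresentedGroup.of .a * pw w) := by group
    _ = PresentedGroup.of .a * pw w := by rw [h1, one_mul]

/-- the certificate check: `u ^ m₂ = 1`, `(h * u⁻¹) ^ m₁ = 1`, `u` and `h` commute with `a` -/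
noncomputable def oddOK (hW uW : List ℕ) (m2 m1 : ℕ) : Bool :=
  decide (m2 % 2 = 1) && decide (m1 % 2 = 1) && chk (rep m2 uW) && chk (rep m1 (invW uW ++ hW)) &&
    chk (commA uW) && chk (commA hW)

theorem mem_oddCent_of {c h u : P} {m1 m2 : ℕ} (hm1 : Odd m1) (hm2 : Odd m2)
    (hu : u ^ m2 = 1) (hhu : (h * u⁻¹) ^ m1 = 1) (huc : u * c = c * u) (hhc : h * c = c * h) :
    h ∈ oddCent c := by
  have e : h = (h * u⁻¹) * u := by group
  rw [e]
  refine Subgroup.mul_mem _ (Subgroup.subset_closure ⟨?_, m1, hm1, hhu⟩)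
    (Subgroup.subset_closure ⟨huc, m2, hm2, hu⟩)
  have huc' : u⁻¹ * c = c * u⁻¹ := by
    calc u⁻¹ * c = u⁻¹ * (c * u) * u⁻¹ := by group
      _ = u⁻¹ * (u * c) * u⁻¹ := by rw [huc]
      _ = c * u⁻¹ := by group
  calc h * u⁻¹ * c = h * (u⁻¹ * c) := by group
    _ = h * (c * u⁻¹) := by rw [huc']
    _ = (h * c) * u⁻¹ := by group
    _ = (c * h) * u⁻¹ := by rw [hhc]
    _ = c * (h * u⁻¹) := by group

theorem mem_of_oddOK (hW uW : List ℕ) (m2 m1 : ℕ) (h : oddOK hW uW m2 m1 = true) :
    pw hW ∈ oddCent (PresentedGroup.of (rels := RP) .a) := by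
  unfold oddOK at h
  simp only [Bool.and_eq_true, decide_eq_true_eq] at h
  obtain ⟨⟨⟨⟨⟨h1, h2⟩, h3⟩, h4⟩, h5⟩, h6⟩ := h
  refine mem_oddCent_of (u := pw uW) (m1 := m1) (m2 := m2) (Nat.odd_iff.mpr h2) (Nat.odd_iff.mpr h1)
    ?_ ?_ (commute_of_commA uW h5) (commute_of_commA hW h6)
  · rw [← pw_rep]
    exact pw_eq_one _ h3
  · have e : pw hW * (pw uW)⁻¹ = pw (invW uW ++ hW) := by rw [pw_append, pw_invW]
    rw [e, ← pw_rep]
    exact pw_eq_one _ h4

/-! ### the data -/

/-- the word of `(gw j)⁻¹ * s i * gw j` -/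
def hComm (i j : Gen) : List ℕ := gwW j ++ [enc i] ++ invW (gwW j)

theorem pw_hComm (i j : Gen) :
    pw (hComm i j) = (pw (gwW j))⁻¹ * PresentedGroup.of i * pw (gwW j) := by
  unfold hComm
  rw [pw_append, pw_append, pw_invW, pw_enc, mul_assoc]

/-- the word of `(gw j)⁻¹ * s i * s j * gw i` -/
def hEdge (i j : Gen) : List ℕ := gwW i ++ [enc j] ++ [enc i] ++ invW (gwW j)

theorem pw_hEdge (i j : Gen) :
    pw (hEdge i j) = (pw (gwW j))⁻¹ * PresentedGroup.of i * PresentedGroup.of j * pw (gwW i) := by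
  unfold hEdge
  rw [pw_append, pw_append, pw_append, pw_invW, pw_enc, pw_enc]
  group

/-- the word of `(s i)⁻¹ * (gw i * a * (gw i)⁻¹)` -/
def hGw (i : Gen) : List ℕ := invW (gwW i) ++ aW ++ gwW i ++ invW [enc i]

theorem pw_hGw (i : Gen) :
    pw (hGw i) = (PresentedGroup.of i)⁻¹ * (pw (gwW i) * PresentedGroup.of .a * (pw (gwW i))⁻¹) := by
  unfold hGw
  rw [pw_append, pw_append, pw_append, pw_invW, pw_invW, pw_enc, pw_aW]
  group

/-- the word of `a⁻¹ * (x * y * x⁻¹ * y⁻¹)` -/
def hXY : List ℕ := invW yW ++ invW xW ++ yW ++ xW ++ invW aW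

theorem pw_hXY :
    pw hXY = (PresentedGroup.of .a)⁻¹ * (pw xW * pw yW * (pw xW)⁻¹ * (pw yW)⁻¹) := by
  unfold hXY
  rw [pw_append, pw_append, pw_append, pw_append, pw_invW, pw_invW, pw_invW, pw_aW]
  group

noncomputable def commOK : Bool :=
  commCert.all fun t => oddOK (hComm t.1 t.2.1) t.2.2.1 t.2.2.2.1 t.2.2.2.2

noncomputable def edgeOK : Bool := edgeCert.all fun t => chk (hEdge t.1 t.2.1)

noncomputable def gwOK : Bool :=
  ([.a, .b, .c, .d, .e, .f, .g, .h, .i] : List Gen).all fun i => chk (hGw i)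

theorem xOK : oddOK xW xuW xuOrd.1 xuOrd.2 = true := by decide +kernel
theorem xyOK : chk hXY = true := by decide +kernel
theorem xxOK : chk (xW ++ xW) = true := by decide +kernel
theorem gwOK_true : gwOK = true := by decide +kernel
theorem edgeOK_true : edgeOK = true := by decide +kernel
theorem commOK_true : commOK = true := by decide +kernel

end CLB

/-- the pairs of commuting generators, oriented as in the certificates -/
def commPairs : List (Gen × Gen) :=
  [(.a, .c), (.a, .d), (.a, .e), (.a, .f), (.a, .g), (.a, .h), (.a, .i), (.b, .d), (.b, .e), (.b, .f),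
   (.b, .g), (.b, .h), (.b, .i), (.c, .e), (.c, .f), (.c, .g), (.c, .h), (.c, .i), (.d, .f), (.d, .g),
   (.d, .i), (.e, .g), (.e, .h), (.e, .i), (.f, .h), (.f, .i), (.g, .h), (.g, .i)]

/-- the edges `(i, j)` of the diagram, oriented as in the certificates -/
def edgePairs : List (Gen × Gen) :=
  [(.a, .b), (.b, .c), (.c, .d), (.d, .e), (.d, .h), (.e, .f), (.f, .g), (.h, .i)]

namespace CLB

theorem commPairs_eq : commPairs = commCert.map fun t => (t.1, t.2.1) := by decide
theorem edgePairs_eq : edgePairs = edgeCert.map fun t => (t.1, t.2.1) := by decide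

end CLB

open CLB in
/-- [CL-B] -/
theorem cert_main : ∃ (x y : P) (gw : Gen → P),
    x ∈ oddCent (PresentedGroup.of (rels := RP) .a) ∧
    x * y * x⁻¹ * y⁻¹ = PresentedGroup.of .a ∧ x * x = 1 ∧
    (∀ i, gw i * PresentedGroup.of .a * (gw i)⁻¹ = PresentedGroup.of i) ∧
    (∀ p ∈ commPairs, (gw p.2)⁻¹ * PresentedGroup.of p.1 * gw p.2 ∈
      oddCent (PresentedGroup.of (rels := RP) .a)) ∧
    (∀ p ∈ edgePairs, (gw p.2)⁻¹ * PresentedGroup.of p.1 * PresentedGroup.of p.2 * gw p.1 ∈
      oddCent (PresentedGroup.of (rels := RP) .a)) := by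
  refine ⟨pw xW, pw yW, fun i => pw (gwW i), mem_of_oddOK _ _ _ _ xOK, ?_, ?_, ?_, ?_, ?_⟩
  · have h := pw_eq_one _ xyOK
    rw [pw_hXY] at h
    exact (inv_mul_eq_one.mp h).symm
  · have h := pw_eq_one _ xxOK
    rw [pw_append] at h
    exact h
  · intro i
    have hall := gwOK_true
    unfold gwOK at hall
    rw [List.all_eq_true] at hall
    have h := pw_eq_one _ (hall i (by cases i <;> simp))
    rw [pw_hGw] at h
    exact (inv_mul_eq_one.mp h).symm
  · intro p hp
    rw [commPairs_eq, List.mem_map] at hp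
    obtain ⟨t, ht, rfl⟩ := hp
    have hall := commOK_true
    unfold commOK at hall
    rw [List.all_eq_true] at hall
    have h := mem_of_oddOK _ _ _ _ (hall t ht)
    rw [pw_hComm] at h
    exact h
  · intro p hp
    rw [edgePairs_eq, List.mem_map] at hp
    obtain ⟨t, ht, rfl⟩ := hp
    have hall := edgeOK_true
    unfold edgeOK at hall
    rw [List.all_eq_true] at hall
    have h := pw_eq_one _ (hall t ht)
    rw [pw_hEdge] at h
    show (pw (gwW t.2.1))⁻¹ * PresentedGroup.of t.1 * PresentedGroup.of t.2.1 * pw (gwW t.1) ∈ _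
    rw [h]
    exact Subgroup.one_mem _

end Cfsg.Agent.Lib.Helper6.Fi22M
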