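import Cfsg.Agent.Lib.Helper6.Fi22M.Defs
import Cfsg.Agent.Lib.Helper3.Fi22MEXK
import Cfsg.Agent.Lib.Helper4.TC.Fi22SMain

set_option autoImplicit false
set_option maxRecDepth 100000
set_option linter.unusedVariables false

/-! S2053-[EX]: the covering group `PW1` is a stem extension of `P = Cfsg.Spor.Fi22` with kernel cyclic of
order six, from the statements of [EX-card], [EX-perf], [EX-2], [EX-3] (hypotheses) and helper3's [EX-K]. -/

namespace Cfsg.Agent.Lib.Helper6.Fi22M

open Cfsg Cfsg.Agent.Helper4.TC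

namespace EX

/-- the code word of a generator -/
def gwd (k : Gen) : List ℕ := [enc k]

theorem evc_gwd {Q : Type*} [Group Q] (f : Gen → Q) (k : Gen) : evc f dec (gwd k) = f k := by
  unfold gwd
  rw [evc_cons, evc_nil, one_mul]
  have h : dec (enc k) = (k, true) := Fi22U62.coding.dec_enc k
  rw [h]
  rfl

theorem gwd_mem (k : Gen) : gwd k ∈ gensL := by
  cases k <;> decide

theorem comm_word_mem (k : Gen) (ρ : List ℕ) (L : List (List ℕ)) (hρ : ρ ∈ L) :
    invW (gwd k) ++ invW ρ ++ gwd k ++ ρ ∈ Schur.weakify0 gensL L := by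
  unfold Schur.weakify0
  exact List.mem_flatMap.mpr ⟨ρ, hρ, List.mem_map.mpr ⟨gwd k, gwd_mem k, rfl⟩⟩

/-- a commutator word which is trivial: the two elements commute -/
theorem commute_of_comm_word {Q : Type*} [Group Q] (f : Gen → Q) (x ρ : List ℕ)
    (h : evc f dec (invW x ++ invW ρ ++ x ++ ρ) = 1) :
    evc f dec ρ * evc f dec x = evc f dec x * evc f dec ρ := by
  rw [evc_append, evc_append, evc_append, evc_invW f Fi22U62.coding,
    evc_invW f Fi22U62.coding] at h
  have h2 : evc f dec ρ * evc f dec x * (evc f dec ρ)⁻¹ * (evc f dec x)⁻¹ = 1 := by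
    rw [← h]
    group
  calc evc f dec ρ * evc f dec x
      = (evc f dec ρ * evc f dec x * (evc f dec ρ)⁻¹ * (evc f dec x)⁻¹) *
          (evc f dec x * evc f dec ρ) := by group
    _ = evc f dec x * evc f dec ρ := by rw [h2, one_mul]

/-- the relators of `PW1` hold in `PW1` -/
theorem relW1_one (b : List ℕ) (hb : b ∈ relW1) :
    evc (PresentedGroup.of (rels := RW1)) dec b = 1 := by
  rw [evc_of]
  exact PresentedGroup.one_of_mem (mem_relSet relW1 b hb)

/-- an element commuting with the generators is central -/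
theorem center_of_comm_W1 (g : PW1)
    (hg : ∀ k, g * PresentedGroup.of k = PresentedGroup.of k * g) :
    g ∈ Subgroup.center PW1 := by
  have h : (⊤ : Subgroup PW1) ≤ Subgroup.centralizer {g} := by
    rw [← PresentedGroup.closure_range_of RW1, Subgroup.closure_le]
    rintro _ ⟨k, rfl⟩
    rw [SetLike.mem_coe, Subgroup.mem_centralizer_iff]
    intro h hh
    rw [Set.mem_singleton_iff.mp hh]
    exact hg k
  rw [Subgroup.mem_center_iff]
  intro x
  have hx := Subgroup.mem_centralizer_iff.mp (h (Subgroup.mem_top x)) g (Set.mem_singleton _)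
  exact hx.symm

theorem rho_center (ρ : List ℕ) (hρ : ρ ∈ [rho1, rho3]) :
    evc (PresentedGroup.of (rels := RW1)) dec ρ ∈ Subgroup.center PW1 := by
  apply center_of_comm_W1
  intro k
  have h := commute_of_comm_word (PresentedGroup.of (rels := RW1)) (gwd k) ρ
    (relW1_one _ (List.mem_append_right _ (comm_word_mem k ρ _ hρ)))
  rw [evc_gwd] at h
  exact h

theorem r1_center : r1 ∈ Subgroup.center PW1 := rho_center rho1 (by simp)
theorem r3_center : r3 ∈ Subgroup.center PW1 := rho_center rho3 (by simp)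

/-- the map onto `P` -/
theorem exists_tau : ∃ τ : PW1 →* P, ∀ x, τ (PresentedGroup.of x) = PresentedGroup.of x := by
  refine Schur.exists_hom_weak0 Fi22U62.coding (⊥ : Subgroup P) bot_le
    (PresentedGroup.of (rels := RP)) (coxL ++ [rho2]) [rho1, rho3] gensL ?_ ?_
  · intro b hb
    apply evc_of_eq_one
    rcases List.mem_append.mp hb with h | h
    · exact List.mem_append_left _ h
    · refine List.mem_append_right _ ?_
      rw [List.mem_singleton] at h
      rw [h]
      simp [centL]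
  · intro ρ hρ
    rw [Subgroup.mem_bot]
    apply evc_of_eq_one
    refine List.mem_append_right _ ?_
    have h : ρ = rho1 ∨ ρ = rho3 := by simpa using hρ
    rcases h with rfl | rfl <;> simp [centL]

theorem tau_evc (τ : PW1 →* P) (hτ : ∀ x, τ (PresentedGroup.of x) = PresentedGroup.of x)
    (w : List ℕ) :
    τ (evc (PresentedGroup.of (rels := RW1)) dec w) = evc (PresentedGroup.of (rels := RP)) dec w := by
  rw [Schur.map_evc]
  congr 1
  funext x
  exact hτ x

/-- an element of order three has three distinct powers -/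
theorem pow_inj_three {Q : Type*} [Group Q] (a : Q) (ha : a ≠ 1) (h3 : a ^ 3 = 1) (i j : Fin 3)
    (h : a ^ i.val = a ^ j.val) : i = j := by
  have ho : orderOf a = 3 := orderOf_eq_prime h3 ha
  have := pow_injOn_Iio_orderOf (x := a)
  have hi : i.val ∈ Set.Iio (orderOf a) := by rw [ho]; exact i.isLt
  have hj : j.val ∈ Set.Iio (orderOf a) := by rw [ho]; exact j.isLt
  exact Fin.ext (this hi hj h)

/-- an element of order two has two distinct powers -/
theorem pow_inj_two {Q : Type*} [Group Q] (a : Q) (ha : a ≠ 1) (h2 : a ^ 2 = 1) (i j : Fin 2)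
    (h : a ^ i.val = a ^ j.val) : i = j := by
  have ho : orderOf a = 2 := orderOf_eq_prime h2 ha
  have := pow_injOn_Iio_orderOf (x := a)
  have hi : i.val ∈ Set.Iio (orderOf a) := by rw [ho]; exact i.isLt
  have hj : j.val ∈ Set.Iio (orderOf a) := by rw [ho]; exact j.isLt
  exact Fin.ext (this hi hj h)

end EX

open EX in
/-- **[EX]** from the statements of [EX-card], [EX-perf], [EX-2], [EX-3] -/
theorem exists_stem_of
    (hcard : Finite PW1 ∧ Nat.card PW1 ≤ 6 * 64561751654400)
    (hperf : commutator PW1 = ⊤)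
    (hA : ∃ (Δ : Type) (_ : Group Δ) (φ : PW1 →* Δ), φ r3 ≠ 1 ∧ φ r3 ^ 2 = 1 ∧ φ r1 = 1)
    (hB : ∃ (Δ : Type) (_ : Group Δ) (φ : PW1 →* Δ), φ r1 ≠ 1 ∧ φ r1 ^ 3 = 1 ∧ φ r3 = 1) :
    ∃ τ : PW1 →* P, IsStemExtension τ ∧ Nonempty (τ.ker ≃* Multiplicative (ZMod 6)) := by
  haveI : Finite PW1 := hcard.1
  obtain ⟨τ, hτ⟩ := exists_tau
  obtain ⟨ΔA, instA, φA, hA1, hA2, hA3⟩ := hA
  obtain ⟨ΔB, instB, φB, hB1, hB2, hB3⟩ := hB
  have hsurj : Function.Surjective τ := by
    rw [← MonoidHom.range_eq_top, eq_top_iff, ← PresentedGroup.closure_range_of RP,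
      Subgroup.closure_le]
    rintro _ ⟨k, rfl⟩
    exact ⟨PresentedGroup.of k, hτ k⟩
  -- the order of the kernel
  have hc1 : Nat.card PW1 = Nat.card τ.ker * Nat.card P := by
    rw [← Subgroup.card_mul_index τ.ker, Subgroup.index_ker,
      MonoidHom.range_eq_top.mpr hsurj, Subgroup.card_top]
  have hP : Nat.card P = 64561751654400 := Fi22S.main.2
  have hK : Nat.card τ.ker ≤ 6 := by
    have h6 := hcard.2
    rw [hc1, hP] at h6
    exact Nat.le_of_mul_le_mul_right h6 (by norm_num)
  -- the two central elements lie in the kernel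
  have hr1 : r1 ∈ τ.ker := by
    rw [MonoidHom.mem_ker]
    unfold r1
    rw [tau_evc τ hτ]
    exact evc_of_eq_one rho1 (List.mem_append_right _ (by simp [centL]))
  have hr3 : r3 ∈ τ.ker := by
    rw [MonoidHom.mem_ker]
    unfold r3
    rw [tau_evc τ hτ]
    exact evc_of_eq_one rho3 (List.mem_append_right _ (by simp [centL]))
  have hcomm : Commute r1 r3 := (Subgroup.mem_center_iff.mp r1_center r3).symm
  -- the product of the two models
  let φ : PW1 →* ΔA × ΔB := φA.prod φB
  have hφ1 : φ r1 = (1, φB r1) := by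
    show (φA r1, φB r1) = _
    rw [hA3]
  have hφ3 : φ r3 = (φA r3, 1) := by
    show (φA r3, φB r3) = _
    rw [hB3]
  have h3 : φ r1 ^ 3 = 1 := by
    rw [hφ1, Prod.pow_mk, one_pow, hB2]
    rfl
  have h2 : φ r3 ^ 2 = 1 := by
    rw [hφ3, Prod.pow_mk, one_pow, hA2]
    rfl
  have hinj : Function.Injective (fun t : Fin 3 × Fin 2 => φ r1 ^ t.1.val * φ r3 ^ t.2.val) := by
    intro s t hst
    have e : ∀ u : Fin 3 × Fin 2, φ r1 ^ u.1.val * φ r3 ^ u.2.val =
        (φA r3 ^ u.2.val, φB r1 ^ u.1.val) := by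
      intro u
      rw [hφ1, hφ3, Prod.pow_mk, Prod.pow_mk, one_pow, one_pow, Prod.mk_mul_mk, one_mul, mul_one]
    have hst' : (φA r3 ^ s.2.val, φB r1 ^ s.1.val) = (φA r3 ^ t.2.val, φB r1 ^ t.1.val) := by
      rw [← e s, ← e t]
      exact hst
    have h1 := (Prod.mk.injEq _ _ _ _).mp hst'
    exact Prod.ext (pow_inj_three _ hB1 hB2 _ _ h1.2) (pow_inj_two _ hA1 hA2 _ _ h1.1)
  haveI : Finite τ.ker := inferInstance
  obtain ⟨hgen, hiso⟩ := kernel_c6 τ.ker hK φ r1 r3 hr1 hr3 hcomm h3 h2 hinj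
  refine ⟨τ, ⟨hsurj, ?_, ?_⟩, hiso⟩
  · intro g hg
    obtain ⟨i, j, rfl⟩ := hgen g hg
    exact Subgroup.mul_mem _ (Subgroup.pow_mem _ r1_center i) (Subgroup.pow_mem _ r3_center j)
  · rw [hperf]
    exact le_top

end Cfsg.Agent.Lib.Helper6.Fi22M
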