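import Cfsg.Agent.Lib.Helper6.Fi22M.Defs
import Cfsg.Agent.Lib.Helper6.Fi22M.EX
import Cfsg.Agent.Lib.Helper9.Fi22MCLC
import Cfsg.Agent.Lib.Helper9.Fi22MUB
import Cfsg.Agent.Lib.Helper9.Fi22MEXC
import Cfsg.Agent.Lib.Helper23.L34T

set_option autoImplicit false
set_option maxRecDepth 100000
set_option linter.unusedVariables false

/-! S2053: assembly, with the statements of [TC], [PAR], [EX-2], [EX-3] as hypotheses. -/

namespace Cfsg.Agent.Lib.Helper6.Fi22M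

open Cfsg Cfsg.Agent.Helper4.TC

theorem hasMult_P_of
    (hTC : Finite PW ∧ Nat.card PW ≤ 12 * 64561751654400)
    (hPar : ∃ χ : PW →* Multiplicative (ZMod 2),
      ∀ x, χ (PresentedGroup.of x) = Multiplicative.ofAdd 1)
    (hA : ∃ (Δ : Type) (_ : Group Δ) (φ : PW1 →* Δ), φ r3 ≠ 1 ∧ φ r3 ^ 2 = 1 ∧ φ r1 = 1)
    (hB : ∃ (Δ : Type) (_ : Group Δ) (φ : PW1 →* Δ), φ r1 ≠ 1 ∧ φ r1 ^ 3 = 1 ∧ φ r3 = 1) :
    HasSchurMultiplier P (Multiplicative (ZMod 6)) := by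
  have hcard1 := card_PW1_of hTC hPar
  haveI : Finite PW1 := hcard1.1
  have hP : Nat.card P = 64561751654400 := Fi22S.main.2
  haveI : Finite P := Nat.finite_of_card_ne_zero (by rw [hP]; norm_num)
  obtain ⟨τ, hτ, he⟩ := exists_stem_of hcard1 perfect_PW1 hA hB
  refine Cfsg.Agent.Lib.Helper7.L34.hasSchurMultiplier_of_card_le
    ⟨PW1, inferInstance, inferInstance, τ, hτ, he⟩ ?_
  intro Γ _ _ σ hσ
  have h6 : Nat.card (Multiplicative (ZMod 6)) = 6 := by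
    rw [Nat.card_eq_fintype_card]; rfl
  rw [h6]
  exact card_ker_le_of (fun σ hs hk => exists_lifts σ hs hk) hTC hPar σ hσ

end Cfsg.Agent.Lib.Helper6.Fi22M
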